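import Cfsg.Agent.H91.PointOrb
import Cfsg.Agent.H91.SympStd
import Cfsg.Agent.H113.PSU.Rank3_m3
import Cfsg.Agent.LieClassical.SympCenter
import Cfsg.Agent.Prune
set_option linter.all false
prune_inst 0x7f00000000000000000000000000000000000000000000000000000000000000000000000000000000000000000000000000000000000000000000000000000000000000000000000000000000000000003fffffffffffffffffffffffffffbeffbdfffffffd
open scoped Cfsg.Agent.FastGrp

/-!
# The rank 3 action of `PSp_2m(q)` on points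
-/

set_option autoImplicit false
set_option linter.unusedSectionVars false

namespace Cfsg.Agent.H107.DZ.Points

open Cfsg Cfsg.Agent.H91 Symp PointOrb Module Cfsg.Agent.H690.Spor.RankThree
open Cfsg.Agent.H91.ZeroB Cfsg.Agent.H91.Flag
open scoped LinearAlgebra.Projectivization

variable {F V : Type*} [Field F] [Fintype F] [AddCommGroup V] [Module F V] [FiniteDimensional F V] [Fintype V]
  {B : LinearMap.BilinForm F V}

/-- different perpendicular points -/
def Adj (B : LinearMap.BilinForm F V) (x y : ℙ F V) : Prop := x ≠ y ∧ B x.rep y.rep = 0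

theorem li_of_ne {x y : ℙ F V} (h : x ≠ y) : LinearIndependent F ![x.rep, y.rep] := by
  rw [LinearIndependent.pair_iff' x.rep_nonzero]
  intro a e
  apply h
  rw [← x.mk_rep, ← y.mk_rep, Projectivization.mk_eq_mk_iff]
  have ha : a ≠ 0 := by
    rintro rfl
    rw [zero_smul] at e
    exact y.rep_nonzero e.symm
  exact ⟨Units.mk0 a⁻¹ (inv_ne_zero ha), by rw [← e]; show a⁻¹ • a • x.rep = x.rep; rw [smul_smul,
    inv_mul_cancel₀ ha, one_smul]⟩

theorem smul_eq (g : Iso B) {x y : ℙ F V} (h : ∃ c : F, g.1 x.rep = c • y.rep) : g • x = y := by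
  have h1 := smul_eq_of g x.rep_nonzero y.rep_nonzero h
  rwa [x.mk_rep, y.mk_rep] at h1

theorem exists_of_smul (g : Iso B) (x : ℙ F V) : ∃ c : F, g.1 x.rep = c • (g • x).rep := by
  refine exists_of_smul_eq g x.rep_nonzero (g • x).rep_nonzero ?_
  rw [x.mk_rep, (g • x).mk_rep]

theorem inv_zero (g : Iso B) (x y : ℙ F V) : B (g • x).rep (g • y).rep = 0 ↔ B x.rep y.rep = 0 := by
  obtain ⟨a, ha⟩ := exists_of_smul g x
  obtain ⟨b, hb⟩ := exists_of_smul g y
  have ha0 : a ≠ 0 := by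
    rintro rfl
    rw [zero_smul] at ha
    exact x.rep_nonzero ((LinearEquiv.map_eq_zero_iff g.1).1 ha)
  have hb0 : b ≠ 0 := by
    rintro rfl
    rw [zero_smul] at hb
    exact y.rep_nonzero ((LinearEquiv.map_eq_zero_iff g.1).1 hb)
  have h1 := Iso.smul_mem g.2 x.rep y.rep
  rw [ha, hb, map_smul, map_smul, LinearMap.smul_apply, smul_eq_mul, smul_eq_mul] at h1
  rw [← h1]
  simp [ha0, hb0]

theorem exists_adj (hB : SForm B) {x y x' y' : ℙ F V} (h : Adj B x y) (h' : Adj B x' y') :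
    ∃ g : Iso B, g • x = x' ∧ g • y = y' := by
  obtain ⟨g, hg, e⟩ := witt_family hB (li_of_ne h.1) (li_of_ne h'.1) (by
    intro i j
    fin_cases i <;> fin_cases j
    · exact (hB.self _).trans (hB.self _).symm
    · exact h.2.trans h'.2.symm
    · exact (hB.swap_zero h.2).trans (hB.swap_zero h'.2).symm
    · exact (hB.self _).trans (hB.self _).symm)
  exact ⟨⟨g, hg⟩, smul_eq _ ⟨1, by rw [one_smul]; exact e 0⟩, smul_eq _ ⟨1, by rw [one_smul]; exact e 1⟩⟩

theorem exists_nadj (hB : SForm B) {x y x' y' : ℙ F V} (h : B x.rep y.rep ≠ 0) (h' : B x'.rep y'.rep ≠ 0) :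
    ∃ g : Iso B, g • x = x' ∧ g • y = y' := by
  have hne : x ≠ y := by
    rintro rfl
    exact h (hB.self _)
  have hne' : x' ≠ y' := by
    rintro rfl
    exact h' (hB.self _)
  set a := B x.rep y.rep with ha
  set b := B x'.rep y'.rep with hb
  have hli' : LinearIndependent F ![x'.rep, (a * b⁻¹) • y'.rep] := by
    rw [LinearIndependent.pair_iff]
    intro s t e
    have h5 := LinearIndependent.pair_iff.1 (li_of_ne hne') s (t * (a * b⁻¹)) (by rw [← e, smul_smul])
    exact ⟨h5.1, (mul_eq_zero.1 h5.2).resolve_right (mul_ne_zero h (inv_ne_zero h'))⟩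
  have h6 : B x'.rep ((a * b⁻¹) • y'.rep) = a := by
    rw [map_smul, smul_eq_mul, ← hb, mul_assoc, inv_mul_cancel₀ h', mul_one]
  obtain ⟨g, hg, e⟩ := witt_family hB (li_of_ne hne) hli' (by
    intro i j
    fin_cases i <;> fin_cases j
    · exact (hB.self _).trans (hB.self _).symm
    · exact h6.symm
    · change B y.rep x.rep = B ((a * b⁻¹) • y'.rep) x'.rep
      rw [hB.swap, hB.swap _ x'.rep, h6]
    · exact (hB.self _).trans (hB.self _).symm)
  exact ⟨⟨g, hg⟩, smul_eq _ ⟨1, by rw [one_smul]; exact e 0⟩, smul_eq _ ⟨a * b⁻¹, e 1⟩⟩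

theorem card_compl (hB : SForm B) (x : ℙ F V) {n : ℕ} (hn : finrank F V = n + 1) :
    Nat.card {v : V // B x.rep v ≠ 0} + Fintype.card F ^ n = Fintype.card F ^ (n + 1) := by
  classical
  have hker : finrank F (LinearMap.ker (B x.rep)) = n := by
    have h1 := LinearMap.finrank_range_add_finrank_ker (B x.rep)
    have h2 : LinearMap.range (B x.rep) = ⊤ := by
      rw [LinearMap.range_eq_top]
      obtain ⟨y, hy⟩ := hB.exists_ne x.rep_nonzero
      intro c
      exact ⟨(c * (B x.rep y)⁻¹) • y, by rw [map_smul, smul_eq_mul, mul_assoc, inv_mul_cancel₀ hy, mul_one]⟩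
    rw [h2, finrank_top, finrank_self, hn] at h1
    omega
  have h1 : Nat.card {v : V // B x.rep v = 0} = Fintype.card F ^ n := by
    have h2 : Nat.card (LinearMap.ker (B x.rep)) = Nat.card F ^ n := by
      rw [Module.natCard_eq_pow_finrank (K := F), hker]
    rw [← Nat.card_eq_fintype_card, ← h2]
    exact Nat.card_congr (Equiv.subtypeEquivRight fun v => (LinearMap.mem_ker).symm)
  have h2 : Nat.card V = Fintype.card F ^ (n + 1) := by
    rw [Module.natCard_eq_pow_finrank (K := F), hn, Nat.card_eq_fintype_card]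
  rw [← h1, ← h2, add_comm, ← Nat.card_sum]
  exact Nat.card_congr (Equiv.sumCompl fun v : V => B x.rep v = 0)

theorem card_prod (x : ℙ F V) : Nat.card {y : ℙ F V // B x.rep y.rep ≠ 0} * (Fintype.card F - 1) =
    Nat.card {v : V // B x.rep v ≠ 0} := by
  classical
  have h0 : Nat.card Fˣ = Fintype.card F - 1 := by
    rw [Nat.card_units, Nat.card_eq_fintype_card]
  rw [← h0, ← Nat.card_prod]
  refine Nat.card_eq_of_bijective (fun p => ⟨(p.2 : F) • p.1.1.rep, ?_⟩) ⟨?_, ?_⟩
  · rw [map_smul, smul_eq_mul]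
    exact mul_ne_zero p.2.ne_zero p.1.2
  · rintro ⟨⟨y, hy⟩, c⟩ ⟨⟨z, hz⟩, d⟩ h
    have h1 : (c : F) • y.rep = (d : F) • z.rep := congrArg Subtype.val h
    have h2 : y = z := by
      rw [← y.mk_rep, ← z.mk_rep, Projectivization.mk_eq_mk_iff]
      refine ⟨c⁻¹ * d, ?_⟩
      rw [mul_smul, Units.smul_def d, ← h1]
      exact inv_smul_smul c y.rep
    subst h2
    have h3 : (c : F) = d := smul_left_injective F y.rep_nonzero h1
    rw [Units.ext h3]
  · rintro ⟨v, hv⟩
    have hv0 : v ≠ 0 := by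
      rintro rfl
      exact hv (map_zero _)
    obtain ⟨a, ha⟩ := Projectivization.exists_smul_eq_mk_rep F v hv0
    refine ⟨⟨⟨Projectivization.mk F v hv0, ?_⟩, a⁻¹⟩, ?_⟩
    · rw [← ha, Units.smul_def, map_smul, smul_eq_mul]
      exact mul_ne_zero a.ne_zero hv
    · apply Subtype.ext
      show (↑a⁻¹ : F) • (Projectivization.mk F v hv0).rep = v
      rw [← ha]
      exact inv_smul_smul a v

theorem card_nadj (hB : SForm B) (x : ℙ F V) {n : ℕ} (hn : finrank F V = n + 1) :
    Nat.card {y : ℙ F V // B x.rep y.rep ≠ 0} = Fintype.card F ^ n := by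
  have h1 := card_prod (B := B) x
  have h2 := card_compl hB x hn
  have hq : 1 < Fintype.card F := Fintype.one_lt_card
  obtain ⟨c, hc⟩ : ∃ c, Fintype.card F = c + 1 := ⟨Fintype.card F - 1, by omega⟩
  rw [← h1, pow_succ] at h2
  rw [hc, Nat.add_sub_cancel] at h2
  rw [hc]
  have h3 : Nat.card {y : ℙ F V // B x.rep y.rep ≠ 0} * c = (c + 1) ^ n * c := by
    have : (c + 1) ^ n * (c + 1) = (c + 1) ^ n * c + (c + 1) ^ n := by ring
    omega
  exact Nat.eq_of_mul_eq_mul_right (by omega) h3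

theorem card_split (hB : SForm B) (x : ℙ F V) : Nat.card (ℙ F V) = 1 + Nat.card {y // Adj B x y} +
    Nat.card {y : ℙ F V // B x.rep y.rep ≠ 0} := by
  classical
  have e1 : Nat.card (ℙ F V) = Nat.card {y : ℙ F V // B x.rep y.rep = 0} +
      Nat.card {y : ℙ F V // ¬ B x.rep y.rep = 0} := by
    rw [← Nat.card_sum]
    exact Nat.card_congr (Equiv.sumCompl _).symm
  have e2 : Nat.card {y : ℙ F V // B x.rep y.rep = 0} = Nat.card {y : {y : ℙ F V // B x.rep y.rep = 0} // x = y.1} +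
      Nat.card {y : {y : ℙ F V // B x.rep y.rep = 0} // ¬ x = y.1} := by
    rw [← Nat.card_sum]
    exact Nat.card_congr (Equiv.sumCompl _).symm
  have e3 : Nat.card {y : {y : ℙ F V // B x.rep y.rep = 0} // x = y.1} = 1 := by
    rw [Nat.card_eq_one_iff_unique]
    exact ⟨⟨fun a b => Subtype.ext (Subtype.ext (a.2.symm.trans b.2))⟩, ⟨⟨⟨x, hB.self _⟩, rfl⟩⟩⟩
  have e4 : Nat.card {y : {y : ℙ F V // B x.rep y.rep = 0} // ¬ x = y.1} = Nat.card {y // Adj B x y} :=
    Nat.card_congr ⟨fun y => ⟨y.1.1, y.2, y.1.2⟩, fun y => ⟨⟨y.1, y.2.2⟩, y.2.1⟩, fun y => rfl, fun y => rfl⟩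
  rw [e1, e2, e3, e4]

/-- **The isometry group has rank 3 on points.** -/
theorem r3_iso (hB : SForm B) {n k : ℕ} (hn : finrank F V = n + 1) (hk : 0 < k)
    (h : (1 + k + Fintype.card F ^ n) * (Fintype.card F - 1) = Fintype.card F ^ (n + 1) - 1) :
    R3 (Iso B) (ℙ F V) (Adj B) k (Fintype.card F ^ n) := by
  have hq : 1 < Fintype.card F := Fintype.one_lt_card
  have hc : Nat.card (ℙ F V) = 1 + k + Fintype.card F ^ n := by
    have h1 := Projectivization.card F V
    rw [Module.natCard_eq_pow_finrank (K := F), hn, Nat.card_eq_fintype_card (α := F), ← h] at h1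
    exact (Nat.eq_of_mul_eq_mul_right (by omega) h1).symm
  refine ⟨pretransitive hB, ?_, ?_, ?_, ?_, ?_, ?_, hk, ?_, hc⟩
  · rintro x y ⟨h1, h2⟩
    exact ⟨h1.symm, hB.swap_zero h2⟩
  · exact fun x h => h.1 rfl
  · rintro g x y ⟨h1, h2⟩
    exact ⟨fun h3 => h1 (MulAction.injective g h3), (inv_zero g x y).2 h2⟩
  · exact fun x y x' y' h1 h2 => exists_adj hB h1 h2
  · intro x y x' y' h1 h2 h3 h4
    exact exists_nadj hB (fun h5 => h2 ⟨h1, h5⟩) (fun h5 => h4 ⟨h3, h5⟩)
  · intro x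
    have h1 := card_split hB x
    rw [hc, card_nadj hB x hn] at h1
    omega
  · exact pow_pos (by omega) _

/-- rank 3 for a quotient acting in the same way -/
theorem r3_of_surj {G Q X : Type*} [Group G] [Group Q] [MulAction G X] [MulAction Q X] {R : X → X → Prop} {k l : ℕ}
    (f : G →* Q) (hf : Function.Surjective f) (h : ∀ (g : G) (x : X), f g • x = g • x) (H : R3 G X R k l) :
    R3 Q X R k l := by
  refine ⟨⟨fun x y => ?_⟩, H.symm, H.irr, ?_, ?_, ?_, H.cardk, H.k0, H.l0, H.cardn⟩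
  · obtain ⟨g, hg⟩ := H.trans.exists_smul_eq x y
    exact ⟨f g, (h g x).trans hg⟩
  · intro q x y hxy
    obtain ⟨g, rfl⟩ := hf q
    rw [h, h]
    exact H.inv g x y hxy
  · intro x y x' y' h1 h2
    obtain ⟨g, hg1, hg2⟩ := H.one x y x' y' h1 h2
    exact ⟨f g, (h g x).trans hg1, (h g y).trans hg2⟩
  · intro x y x' y' h1 h2 h3 h4
    obtain ⟨g, hg1, hg2⟩ := H.two x y x' y' h1 h2 h3 h4
    exact ⟨f g, (h g x).trans hg1, (h g y).trans hg2⟩

open Cfsg.Agent.TitsThree.SpIdent Cfsg.Agent.TitsThree Cfsg.Agent.LieClassical in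
/-- **`PSp_2m(q)` has rank 3 on points.** -/
theorem exists_r3 {F : Type*} [Field F] [Fintype F] {m n k : ℕ} (hm : 2 * m = n + 1) (hk : 0 < k)
    (h : (1 + k + Fintype.card F ^ n) * (Fintype.card F - 1) = Fintype.card F ^ (n + 1) - 1) :
    ∃ (_ : MulAction (PSp m F) (ℙ F (Fin m ⊕ Fin m → F))),
      R3 (PSp m F) (ℙ F (Fin m ⊕ Fin m → F)) (Adj (sB m F)) k (Fintype.card F ^ n) := by
  classical
  have hB := sform_sB m F
  have H := r3_iso hB (n := n) (k := k) ((finrank_std m F).trans hm) hk h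
  let f : Iso (sB m F) →* PSp m F := toPSp
  have hf : Function.Surjective f := toPSp_surjective
  have hker : f.ker ≤ (MulAction.toPermHom (Iso (sB m F)) (ℙ F (Fin m ⊕ Fin m → F))).ker := by
    intro g hg
    rw [MonoidHom.mem_ker] at hg ⊢
    have h1 : toSp g ∈ Subgroup.center (Matrix.symplecticGroup (Fin m) F) :=
      (QuotientGroup.eq_one_iff _).1 hg
    obtain ⟨a, ha⟩ := (SympCenter.mem_center_iff m _).1 h1
    ext x
    show g • x = x
    refine smul_eq g ⟨a, ?_⟩
    refine (toSp_mulVec g x.rep).symm.trans ?_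
    rw [ha, Matrix.smul_mulVec, Matrix.one_mulVec]
  let ψ : PSp m F →* Equiv.Perm (ℙ F (Fin m ⊕ Fin m → F)) := MonoidHom.liftOfSurjective f hf ⟨_, hker⟩
  have hψ : ∀ g, ψ (f g) = MulAction.toPermHom (Iso (sB m F)) (ℙ F (Fin m ⊕ Fin m → F)) g := fun g =>
    MonoidHom.liftOfRightInverse_comp_apply f _ (Function.rightInverse_surjInv hf) ⟨_, hker⟩ g
  refine ⟨MulAction.compHom _ ψ, ?_⟩
  let _ := MulAction.compHom (ℙ F (Fin m ⊕ Fin m → F)) ψ
  refine r3_of_surj f hf (fun g x => ?_) H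
  show ψ (f g) x = g • x
  rw [hψ]
  rfl

end Cfsg.Agent.H107.DZ.Points
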